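import Groth.Agent.ARLib.ConstN
import Mathlib.CategoryTheory.Preadditive.Injective.Preserves

/-! Injective towers have injective levels and split surjective transition maps. -/

set_option autoImplicit false

universe v u

open CategoryTheory CategoryTheory.Limits Opposite ARSys

namespace Groth.Agent.CohDer1.RLimMods

open Groth.Agent.ARLib

variable {C : Type u} [Category.{v} C] [Abelian C]

lemma injective_coObj (I : ℕ → C) (hI : ∀ n, Injective (I n)) : ∀ n, Injective (coObj I n)
  | 0 => hI 0
  | n + 1 => by
    haveI := injective_coObj I hI n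
    haveI := hI (n + 1)
    exact inferInstanceAs (Injective (coObj I n ⊞ I (n + 1)))

/-- Every tower embeds in a coinduced tower of injectives. -/
lemma exists_embedding [EnoughInjectives C] (X : PS C) :
    ∃ (I : ℕ → C) (η : X ⟶ coInd I), (∀ n, Injective (I n)) ∧ Mono η := by
  let I : ℕ → C := fun n => Injective.under (X.obj (op n))
  let h : ∀ n, X.obj (op n) ⟶ coObj I n := fun n => Nat.rec (Injective.ι (X.obj (op 0)))
    (fun n hn => biprod.lift (tr X (Nat.le_add_right n 1) ≫ hn) (Injective.ι (X.obj (op (n + 1))))) n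
  have hs : ∀ n, h (n + 1) = biprod.lift (tr X (Nat.le_add_right n 1) ≫ h n)
      (Injective.ι (X.obj (op (n + 1)))) := fun n => rfl
  let η : X ⟶ coInd I := NatTrans.ofOpSequence h fun n => by
    refine Eq.trans ?_ (congrArg (fun t => h (n + 1) ≫ t) (tr_coInd I n).symm)
    exact ((congrArg (fun t => t ≫ biprod.fst) (hs n)).trans (biprod.lift_fst _ _)).symm
  haveI : ∀ a, Mono (η.app a) := fun a => by
    show Mono (h a.unop)
    match a.unop with
    | 0 => exact inferInstanceAs (Mono (Injective.ι (X.obj (op 0))))
    | n + 1 =>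
      rw [hs n]
      exact mono_of_mono_fac (h := Injective.ι (X.obj (op (n + 1)))) (biprod.lift_snd _ _)
  exact ⟨I, η, fun n => inferInstanceAs (Injective (Injective.under _)), NatTrans.mono_of_mono_app η⟩

theorem injective_app [EnoughInjectives C] (X : PS C) [Injective X] (n : ℕ) : Injective (X.obj (op n)) := by
  obtain ⟨I, η, hI, hη⟩ := exists_embedding X
  haveI := hη
  let r := Injective.factorThru (𝟙 X) η
  haveI : Injective ((coInd I).obj (op n)) := injective_coObj I hI n
  exact Retract.injective
    { i := η.app (op n)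
      r := r.app (op n)
      retract := by
        rw [← NatTrans.comp_app, Injective.comp_factorThru]
        rfl }

theorem exists_section [EnoughInjectives C] (X : PS C) [Injective X] (n : ℕ) :
    ∃ s : X.obj (op n) ⟶ X.obj (op (n + 1)), s ≫ tr X (Nat.le_add_right n 1) = 𝟙 _ := by
  obtain ⟨I, η, hI, hη⟩ := exists_embedding X
  haveI := hη
  let r := Injective.factorThru (𝟙 X) η
  refine ⟨η.app (op n) ≫ (biprod.inl : coObj I n ⟶ coObj I n ⊞ I (n + 1)) ≫ r.app (op (n + 1)), ?_⟩
  have h1 : r.app (op (n + 1)) ≫ tr X (Nat.le_add_right n 1) =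
      (biprod.fst : coObj I n ⊞ I (n + 1) ⟶ coObj I n) ≫ r.app (op n) := by
    exact (tr_nat r _).trans (congrArg (fun t => t ≫ r.app (op n)) (tr_coInd I n))
  rw [Category.assoc, Category.assoc]
  erw [h1]
  erw [biprod.inl_fst_assoc]
  rw [← NatTrans.comp_app, Injective.comp_factorThru]
  rfl

end Groth.Agent.CohDer1.RLimMods
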