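import Groth.Agent.S0864
import Groth.Agent.SiteDer16.ModAcyclic
import Groth.Agent.SiteDer16.FreeHom
import Groth.Agent.SiteCoh.AcyclicComplex

/-! Sections of injective resolutions of acyclic modules, and exactness from local lifting. -/

set_option autoImplicit false
set_option backward.isDefEq.respectTransparency false

universe u

open CategoryTheory CategoryTheory.Limits Opposite

namespace Groth.Agent.CohDer1.RLimMods

variable {C : Type u} [SmallCategory C] {J : GrothendieckTopology C}

lemma exact_of_locally (S : ShortComplex (Sheaf J AddCommGrpCat.{u}))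
    (h : ∀ (U : C) (z : S.X₂.obj.obj (op U)), S.g.hom.app (op U) z = 0 →
      ∃ T ∈ J U, ∀ ⦃V : C⦄ (i : V ⟶ U), T i → ∃ y : S.X₁.obj.obj (op V), S.f.hom.app (op V) y = S.X₂.obj.map i.op z) :
    S.Exact := by
  rw [S.exact_iff_epi_kernel_lift]
  haveI : Sheaf.IsLocallySurjective (kernel.lift S.g S.f S.zero) := ⟨fun {U} w => by
    obtain ⟨T, hT, hl⟩ := h U ((kernel.ι S.g).hom.app (op U) w)
      (ConcreteCategory.congr_hom (congrArg (fun φ => φ.hom.app (op U)) (kernel.condition S.g)) w)
    refine J.superset_covering (fun V i hi => ?_) hT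
    obtain ⟨y, hy⟩ := hl i hi
    refine ⟨y, ?_⟩
    haveI : Mono ((kernel.ι S.g).hom.app (op V)) :=
      inferInstanceAs (Mono ((sheafToPresheaf J AddCommGrpCat.{u} ⋙ (evaluation Cᵒᵖ AddCommGrpCat.{u}).obj (op V)).map (kernel.ι S.g)))
    apply (AddCommGrpCat.mono_iff_injective ((kernel.ι S.g).hom.app (op V))).1 inferInstance
    refine Eq.trans ?_ (hy.trans (ConcreteCategory.congr_hom ((kernel.ι S.g).hom.naturality i.op) w).symm)
    exact ConcreteCategory.congr_hom (congrArg (fun φ => φ.hom.app (op V)) (kernel.lift_ι S.g S.f S.zero)) y⟩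
  exact Sheaf.epi_of_isLocallySurjective _

variable (R : Sheaf J RingCat.{u})

/-- Sections over `U` of a module, as an abelian group. -/
noncomputable abbrev gam (U : C) : SheafOfModules.{u} R ⥤ AddCommGrpCat.{u} :=
  SheafOfModules.toSheaf R ⋙ SiteCoh.sectionsAt J U

/-- Sections of an injective resolution of an acyclic module are exact in positive degrees. -/
theorem exists_preimage_sections {M : SheafOfModules.{u} R} (K : CochainComplex (SheafOfModules.{u} R) ℕ)
    (hinj : ∀ i, Injective (K.X i)) (hex : ∀ i, K.ExactAt (i + 1)) (e : K.homology 0 ≅ M) (U : C)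
    (hM : ∀ i : ℕ, Subsingleton (CohSite.HU ((SheafOfModules.toSheaf R).obj M) (i + 1) U)) (k : ℕ)
    (z : (gam R U).obj (K.X (k + 1))) (hz : (gam R U).map (K.d (k + 1) (k + 2)) z = 0) :
    ∃ y : (gam R U).obj (K.X k), (gam R U).map (K.d k (k + 1)) y = z := by
  haveI : PreservesFiniteColimits (SheafOfModules.toSheaf.{u} R) :=
    SiteDer16.preservesFiniteColimits_toSheaf R
  let A := ((SheafOfModules.toSheaf R).mapHomologicalComplex (ComplexShape.up ℕ)).obj K
  haveI : PreservesFiniteLimits (SheafOfModules.toSheaf.{u} R) := inferInstance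
  let mapH : ∀ i, A.homology i ≅ (SheafOfModules.toSheaf R).obj (K.homology i) := fun i =>
    (K.sc i).mapHomologyIso (SheafOfModules.toSheaf R)
  have hA : ∀ i, SiteCoh.ExtAcyclic (CohCx.freeSheaf J U) (A.X i) := fun i p =>
    haveI := hinj i
    S0864.result _ (SiteDer16.ModAcyclic.isTotallyAcyclic_toSheaf R (K.X i)) U p
  have hH : ∀ i, SiteCoh.ExtAcyclic (CohCx.freeSheaf J U) (A.homology i) := fun i => by
    rcases i with _ | i
    · exact SiteCoh.ExtAcyclic.of_iso (fun p => hM p)
        ((SheafOfModules.toSheaf R).mapIso e.symm ≪≫ (mapH 0).symm)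
    · have h0 : IsZero (A.homology (i + 1)) :=
        ((SheafOfModules.toSheaf R).map_isZero ((HomologicalComplex.exactAt_iff_isZero_homology _ _).1 (hex i))).of_iso
          (mapH (i + 1))
      exact fun p => subsingleton_of_forall_eq 0 fun x => by
        rw [← Abelian.Ext.comp_mk₀_id x, h0.eq_of_src (𝟙 _) 0, Abelian.Ext.mk₀_zero, Abelian.Ext.comp_zero]
  obtain ⟨es⟩ := SiteCoh.nonempty_homology_sections_iso A hA hH (k + 1)
  have h1 : IsZero ((((SiteCoh.sectionsAt J U).mapHomologicalComplex _).obj A).homology (k + 1)) :=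
    ((SiteCoh.sectionsAt J U).map_isZero
      (((SheafOfModules.toSheaf R).map_isZero ((HomologicalComplex.exactAt_iff_isZero_homology _ _).1 (hex k))).of_iso
        (mapH (k + 1)))).of_iso es
  rw [← HomologicalComplex.exactAt_iff_isZero_homology,
    HomologicalComplex.exactAt_iff' _ k (k + 1) (k + 2) (by simp) (by simp), ShortComplex.ab_exact_iff] at h1
  exact h1 z hz

end Groth.Agent.CohDer1.RLimMods
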