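import Groth.Agent.CohDer1.RLimMods.InjTower
import Groth.Agent.CohDer1.RLimMods.Sections
import Groth.Agent.S0485
import Groth.Agent.S14616
import Mathlib.CategoryTheory.Abelian.RightDerived

/-! Vanishing of derived limits of towers of modules with acyclic sections. -/

set_option autoImplicit false
set_option backward.isDefEq.respectTransparency false

universe u

open CategoryTheory CategoryTheory.Limits Opposite

namespace Groth.Agent.CohDer1.RLimMods

/-- `lim¹` of a Mittag-Leffler tower vanishes. -/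
lemma exists_solution (T : ℕᵒᵖ ⥤ AddCommGrpCat.{u}) (h : (T ⋙ forget AddCommGrpCat.{u}).IsMittagLeffler)
    (e : ∀ n, T.obj (op n)) :
    ∃ w : ∀ n, T.obj (op n), ∀ n, w n - T.map (homOfLE (Nat.le_add_right n 1)).op (w (n + 1)) = e n := by
  let t : ∀ n, T.obj (op (n + 1)) →+ T.obj (op n) := fun n => (T.map (homOfLE (Nat.le_add_right n 1)).op).hom
  let F0 : ℕᵒᵖ ⥤ AddCommGrpCat.{u} := Functor.ofOpSequence (X := fun n => AddCommGrpCat.of (T.obj (op n)))
    (fun n => AddCommGrpCat.ofHom (t n))
  have hmap : ∀ (m n : ℕ) (hmn : m ≤ n), F0.map (homOfLE hmn).op = T.map (homOfLE hmn).op := by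
    intro m n hmn
    induction n, hmn using Nat.le_induction with
    | base => exact (F0.map_id _).trans (T.map_id _).symm
    | succ n hn ih =>
      rw [show (homOfLE (hn.trans n.le_succ)).op = (homOfLE (Nat.le_add_right n 1)).op ≫ (homOfLE hn).op from rfl,
        F0.map_comp, T.map_comp, ih]
      exact congrArg (· ≫ _) (Functor.ofOpSequence_map_homOfLE_succ _ n)
  have hF : F0 = T := CategoryTheory.Functor.ext (fun a => rfl) fun a b f =>
    ((hmap b.unop a.unop (leOfHom f.unop)).trans (Category.id_comp _).symm).trans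
      (congrArg (𝟙 _ ≫ ·) (Category.comp_id _).symm)
  obtain ⟨w, hw⟩ := S14616.result (fun n => (T.obj (op n) : Type u)) t (by
    show (F0 ⋙ forget AddCommGrpCat.{u}).IsMittagLeffler
    rw [hF]
    exact h) e
  exact ⟨w, fun n => congrFun hw n⟩

variable {C : Type u} [SmallCategory C] {J : GrothendieckTopology C} (R : Sheaf J RingCat.{u})
  {E : ℕᵒᵖ ⥤ SheafOfModules.{u} R} (Res : InjectiveResolution E) (U : C)

instance : PreservesLimitsOfShape ℕᵒᵖ (gam R U) :=
  inferInstanceAs (PreservesLimitsOfShape ℕᵒᵖ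
    (SheafOfModules.evaluation R (op U) ⋙ forget₂ (ModuleCat (R.obj.obj (op U))) AddCommGrpCat.{u}))

/-- The complex at level `n`. -/
noncomputable abbrev lev (n : ℕ) : CochainComplex (SheafOfModules.{u} R) ℕ :=
  (((evaluation ℕᵒᵖ (SheafOfModules.{u} R)).obj (op n)).mapHomologicalComplex _).obj Res.cocomplex

/-- The projection of sections of the limit. -/
noncomputable abbrev prj (j n : ℕ) :
    (gam R U).obj (limit (Res.cocomplex.X j)) ⟶ (gam R U).obj ((Res.cocomplex.X j).obj (op n)) :=
  (gam R U).map (limit.π (Res.cocomplex.X j) (op n))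

lemma prj_d (i j n : ℕ) (x : (gam R U).obj (limit (Res.cocomplex.X i))) :
    prj R Res U j n ((gam R U).map (limMap (Res.cocomplex.d i j)) x) =
      (gam R U).map ((Res.cocomplex.d i j).app (op n)) (prj R Res U i n x) := by
  refine Eq.trans (ConcreteCategory.congr_hom ((gam R U).map_comp _ _) x).symm ?_
  rw [limMap_π]
  exact ConcreteCategory.congr_hom ((gam R U).map_comp _ _) x

lemma prj_tr (j n : ℕ) (x : (gam R U).obj (limit (Res.cocomplex.X j))) :
    (gam R U).map ((Res.cocomplex.X j).map (homOfLE (Nat.le_add_right n 1)).op) (prj R Res U j (n + 1) x) =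
      prj R Res U j n x := by
  refine Eq.trans (ConcreteCategory.congr_hom ((gam R U).map_comp _ _) x).symm ?_
  rw [limit.w]

lemma d_tr (i j n : ℕ) (y : (gam R U).obj ((Res.cocomplex.X i).obj (op (n + 1)))) :
    (gam R U).map ((Res.cocomplex.d i j).app (op n)) ((gam R U).map ((Res.cocomplex.X i).map (homOfLE (Nat.le_add_right n 1)).op) y) =
      (gam R U).map ((Res.cocomplex.X j).map (homOfLE (Nat.le_add_right n 1)).op)
        ((gam R U).map ((Res.cocomplex.d i j).app (op (n + 1))) y) := by
  refine Eq.trans (ConcreteCategory.congr_hom ((gam R U).map_comp _ _) y).symm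
    (Eq.trans ?_ (ConcreteCategory.congr_hom ((gam R U).map_comp _ _) y))
  exact ConcreteCategory.congr_hom (congrArg (gam R U).map ((Res.cocomplex.d i j).naturality _)) y

lemma exists_limit_elem (j : ℕ) (s : ∀ n, (gam R U).obj ((Res.cocomplex.X j).obj (op n)))
    (hs : ∀ n, (gam R U).map ((Res.cocomplex.X j).map (homOfLE (Nat.le_add_right n 1)).op) (s (n + 1)) = s n) :
    ∃ x, ∀ n, prj R Res U j n x = s n := by
  let F := Res.cocomplex.X j
  have hcompat : ∀ m n (h : m ≤ n), (gam R U).map (F.map (homOfLE h).op) (s n) = s m := by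
    intro m n h
    induction n, h using Nat.le_induction with
    | base =>
      exact ConcreteCategory.congr_hom ((congrArg (gam R U).map (F.map_id _)).trans ((gam R U).map_id _)) _
    | succ n hn ih =>
      refine Eq.trans ?_ ih
      rw [show (homOfLE (hn.trans n.le_succ)).op = (homOfLE (Nat.le_add_right n 1)).op ≫ (homOfLE hn).op from rfl,
        F.map_comp]
      exact (ConcreteCategory.congr_hom ((gam R U).map_comp _ _) _).trans (congrArg _ (hs n))
  let G := gam R U ⋙ forget AddCommGrpCat.{u}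
  let hl := isLimitOfPreserves G (limit.isLimit F)
  let c : Cone (F ⋙ G) :=
    { pt := PUnit.{u + 1}
      π := { app := fun n => TypeCat.ofHom fun _ => s n.unop
             naturality := fun a b f => by
               ext
               exact (hcompat b.unop a.unop (leOfHom f.unop)).symm } }
  exact ⟨hl.lift c PUnit.unit, fun n => ConcreteCategory.congr_hom (hl.fac c (op n)) PUnit.unit⟩

lemma limit_elem_ext (j : ℕ) (x y : (gam R U).obj (limit (Res.cocomplex.X j)))
    (h : ∀ n, prj R Res U j n x = prj R Res U j n y) : x = y :=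
  Concrete.isLimit_ext _ (isLimitOfPreserves (gam R U) (limit.isLimit (Res.cocomplex.X j))) x y fun n => h n.unop

variable [EnoughInjectives (SheafOfModules.{u} R)]

lemma exists_lift_tr (j n : ℕ) (x : (gam R U).obj ((Res.cocomplex.X j).obj (op n))) :
    ∃ x', (gam R U).map ((Res.cocomplex.X j).map (homOfLE (Nat.le_add_right n 1)).op) x' = x := by
  haveI := Res.injective j
  obtain ⟨s, hs⟩ := exists_section (C := SheafOfModules.{u} R) (Res.cocomplex.X j) n
  refine ⟨(gam R U).map s x, ?_⟩
  exact (ConcreteCategory.congr_hom ((gam R U).map_comp _ _) x).symm.trans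
    (ConcreteCategory.congr_hom ((congrArg (gam R U).map hs).trans ((gam R U).map_id _)) x)

/-- Exactness of the sections at a level. -/
lemma exists_preimage_lev (hU : ∀ n i : ℕ,
      Subsingleton (CohSite.HU ((SheafOfModules.toSheaf R).obj (E.obj (op n))) (i + 1) U))
    (k n : ℕ) (z : (gam R U).obj ((Res.cocomplex.X (k + 1)).obj (op n)))
    (hz : (gam R U).map ((Res.cocomplex.d (k + 1) (k + 2)).app (op n)) z = 0) :
    ∃ y, (gam R U).map ((Res.cocomplex.d k (k + 1)).app (op n)) y = z := by
  let ev := (evaluation ℕᵒᵖ (SheafOfModules.{u} R)).obj (op n)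
  haveI : QuasiIsoAt Res.ι 0 := inferInstance
  refine exists_preimage_sections R (lev R Res n)
    (fun i => by
      haveI := Res.injective i
      exact injective_app (C := SheafOfModules.{u} R) (Res.cocomplex.X i) n)
    (fun i => ?_) (((Res.cocomplex.sc 0).mapHomologyIso ev) ≪≫ ev.mapIso ((isoOfQuasiIsoAt Res.ι 0).symm ≪≫
      HomologicalComplex.singleObjHomologySelfIso _ _ _)) U (hU n) k z hz
  rw [HomologicalComplex.exactAt_iff' _ i (i + 1) (i + 2) (by simp) (by simp)]
  exact (Res.exact_succ i).map ev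

variable (hU : ∀ n i : ℕ, Subsingleton (CohSite.HU ((SheafOfModules.toSheaf R).obj (E.obj (op n))) (i + 1) U))

include hU in
theorem exists_lim_preimage_succ (k : ℕ) (z : (gam R U).obj (limit (Res.cocomplex.X (k + 2))))
    (hz : (gam R U).map (limMap (Res.cocomplex.d (k + 2) (k + 3))) z = 0) :
    ∃ y, (gam R U).map (limMap (Res.cocomplex.d (k + 1) (k + 2))) y = z := by
  let d := fun (i j n : ℕ) => (gam R U).map ((Res.cocomplex.d i j).app (op n))
  let zs := fun n => prj R Res U (k + 2) n z
  have hzs : ∀ n, ∃ y, d (k + 1) (k + 2) n y = zs n := fun n =>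
    exists_preimage_lev R Res U hU (k + 1) n _ (by rw [← prj_d, hz, map_zero])
  have hstep : ∀ n y, d (k + 1) (k + 2) n y = zs n → ∃ y', d (k + 1) (k + 2) (n + 1) y' = zs (n + 1) ∧
      (gam R U).map ((Res.cocomplex.X (k + 1)).map (homOfLE (Nat.le_add_right n 1)).op) y' = y := by
    intro n y hy
    obtain ⟨y₀, hy₀⟩ := hzs (n + 1)
    obtain ⟨w, hw⟩ := exists_preimage_lev R Res U hU k n
      ((gam R U).map ((Res.cocomplex.X (k + 1)).map (homOfLE (Nat.le_add_right n 1)).op) y₀ - y) (by
        rw [map_sub, d_tr]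
        erw [hy₀]
        rw [prj_tr]
        exact sub_eq_zero.2 hy.symm)
    obtain ⟨w', hw'⟩ := exists_lift_tr R Res U k n w
    refine ⟨y₀ - d k (k + 1) (n + 1) w', ?_, ?_⟩
    · rw [map_sub, hy₀, sub_eq_self]
      refine (ConcreteCategory.congr_hom ((gam R U).map_comp _ _) w').symm.trans ?_
      rw [← NatTrans.comp_app, Res.cocomplex.d_comp_d, zero_app, Functor.map_zero]
      rfl
    · rw [map_sub, ← d_tr, hw', hw, sub_sub_cancel]
  choose next hnext₁ hnext₂ using hstep
  choose y₀ hy₀ using hzs 0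
  let ys : ∀ n, { y // d (k + 1) (k + 2) n y = zs n } := fun n =>
    Nat.rec (motive := fun n => { y // d (k + 1) (k + 2) n y = zs n }) ⟨y₀, hy₀⟩
      (fun n p => ⟨next n p.1 p.2, hnext₁ n p.1 p.2⟩) n
  obtain ⟨x, hx⟩ := exists_limit_elem R Res U (k + 1) (fun n => (ys n).1) fun n => hnext₂ n _ _
  exact ⟨x, limit_elem_ext R Res U _ _ _ fun n => by rw [prj_d, hx]; exact (ys n).2⟩

include hU in
theorem exists_lim_preimage_zero (hML : (E ⋙ gam R U ⋙ forget AddCommGrpCat.{u}).IsMittagLeffler)
    (z : (gam R U).obj (limit (Res.cocomplex.X 1)))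
    (hz : (gam R U).map (limMap (Res.cocomplex.d 1 2)) z = 0) :
    ∃ y, (gam R U).map (limMap (Res.cocomplex.d 0 1)) y = z := by
  let d := fun (i j n : ℕ) => (gam R U).map ((Res.cocomplex.d i j).app (op n))
  let zs := fun n => prj R Res U 1 n z
  let ι : E ⟶ Res.cocomplex.X 0 := Res.ι.f 0
  let i₀ := fun n => (gam R U).map (ι.app (op n))
  have hker : ∀ n c, d 0 1 n c = 0 → ∃ e, i₀ n e = c := fun n c hc => by
    let ev := (evaluation ℕᵒᵖ (SheafOfModules.{u} R)).obj (op n)
    haveI : Mono ι := inferInstanceAs (Mono (Res.ι.f 0))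
    haveI : PreservesFiniteLimits (gam R U) := inferInstance
    exact (ShortComplex.ab_exact_iff _).1 ((Res.exact₀.map ev).map_of_mono_of_preservesKernel (gam R U)
      (inferInstanceAs (Mono (ev.map ι))) inferInstance) c hc
  choose y hy using fun n => exists_preimage_lev R Res U hU 0 n (zs n) (by rw [← prj_d, hz, map_zero])
  let tr := fun (j n : ℕ) => (gam R U).map ((Res.cocomplex.X j).map (homOfLE (Nat.le_add_right n 1)).op)
  choose e he using fun n => hker n (tr 0 n (y (n + 1)) - y n) (by
    show (gam R U).map ((Res.cocomplex.d 0 1).app (op n)) _ = 0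
    rw [map_sub, d_tr]
    erw [hy (n + 1)]
    rw [prj_tr]
    exact sub_eq_zero.2 (hy n).symm)
  obtain ⟨w, hw⟩ := exists_solution (E ⋙ gam R U) hML e
  have hι : ∀ n v, tr 0 n (i₀ (n + 1) v) = i₀ n ((E ⋙ gam R U).map (homOfLE (Nat.le_add_right n 1)).op v) := fun n v => by
    refine (ConcreteCategory.congr_hom ((gam R U).map_comp _ _) v).symm.trans
      (Eq.trans ?_ (ConcreteCategory.congr_hom ((gam R U).map_comp _ _) v))
    exact (ConcreteCategory.congr_hom (congrArg (gam R U).map (ι.naturality _)) v).symm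
  have hd0 : ∀ n v, d 0 1 n (i₀ n v) = 0 := fun n v => by
    refine (ConcreteCategory.congr_hom ((gam R U).map_comp _ _) v).symm.trans ?_
    have : ι.app (op n) ≫ (Res.cocomplex.d 0 1).app (op n) = 0 := by
      rw [← NatTrans.comp_app, Res.ι_f_zero_comp_complex_d]
      rfl
    exact ConcreteCategory.congr_hom ((congrArg (gam R U).map this).trans (Functor.map_zero _ _ _)) v
  obtain ⟨x, hx⟩ := exists_limit_elem R Res U 0 (fun n => y n + i₀ n (w n)) fun n => by
    show tr 0 n (y (n + 1) + i₀ (n + 1) (w (n + 1))) = y n + i₀ n (w n)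
    rw [map_add, hι]
    have h1 : tr 0 n (y (n + 1)) = y n + i₀ n (e n) := by rw [he]; abel
    rw [h1, ← hw n, map_sub]
    abel
  refine ⟨x, limit_elem_ext R Res U _ _ _ fun n => ?_⟩
  rw [prj_d, hx, map_add]
  erw [hd0 n (w n), add_zero, hy n]

/-- Local lifting gives exactness of the limit complex. -/
theorem exactAt_lim [(lim : (ℕᵒᵖ ⥤ SheafOfModules.{u} R) ⥤ SheafOfModules.{u} R).Additive] (i : ℕ) (B : Set C)
    (hB : ∀ V : C, ∃ T ∈ J V, ∀ ⦃W : C⦄ (g : W ⟶ V), T g → ∃ (V' : C) (_ : V' ∈ B) (a : W ⟶ V') (b : V' ⟶ V), a ≫ b = g)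
    (hlift : ∀ V ∈ B, ∀ z : (gam R V).obj (limit (Res.cocomplex.X (i + 1))),
      (gam R V).map (limMap (Res.cocomplex.d (i + 1) (i + 2))) z = 0 →
        ∃ y, (gam R V).map (limMap (Res.cocomplex.d i (i + 1))) y = z) :
    (((lim : (ℕᵒᵖ ⥤ SheafOfModules.{u} R) ⥤ _).mapHomologicalComplex (ComplexShape.up ℕ)).obj Res.cocomplex).ExactAt (i + 1) := by
  haveI : PreservesFiniteColimits (SheafOfModules.toSheaf.{u} R) := SiteDer16.preservesFiniteColimits_toSheaf R
  rw [HomologicalComplex.exactAt_iff' _ i (i + 1) (i + 2) (by simp) (by simp),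
    ← ShortComplex.exact_map_iff_of_faithful _ (SheafOfModules.toSheaf.{u} R)]
  refine exact_of_locally _ fun V z hz => ?_
  obtain ⟨T, hT, hl⟩ := hB V
  refine ⟨T, hT, fun W g hg => ?_⟩
  obtain ⟨V', hV', a, b, rfl⟩ := hl g hg
  let S := (SheafOfModules.toSheaf.{u} R).obj
  obtain ⟨y, hy⟩ := hlift V' hV' ((S (limit (Res.cocomplex.X (i + 1)))).obj.map b.op z) (by
    refine (ConcreteCategory.congr_hom
      (((SheafOfModules.toSheaf.{u} R).map (limMap (Res.cocomplex.d (i + 1) (i + 2)))).hom.naturality b.op) z).trans ?_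
    refine (congrArg (((S (limit (Res.cocomplex.X (i + 2)))).obj.map b.op).hom) hz).trans ?_
    exact map_zero (((S (limit (Res.cocomplex.X (i + 2)))).obj.map b.op).hom))
  refine ⟨(S (limit (Res.cocomplex.X i))).obj.map a.op y, ?_⟩
  refine (ConcreteCategory.congr_hom
    (((SheafOfModules.toSheaf.{u} R).map (limMap (Res.cocomplex.d i (i + 1)))).hom.naturality a.op) y).trans ?_
  refine (congrArg _ hy).trans ?_
  rw [op_comp, Functor.map_comp]
  rfl

end Groth.Agent.CohDer1.RLimMods
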